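import Cfsg.Agent.Lib.PrimeGraphFour.Tools
import Cfsg.Agent.Lib.Frobenius.Action
import Cfsg.Agent.Lib.Solvable.Nilpotent

/-!
A fixed-point-free operator of prime order with a one-dimensional fixed space on a module makes the
kernel act through an abelian group: Galois descent along the centre.
-/

set_option autoImplicit false

open Subgroup
open scoped commutatorElement

universe u

namespace Cfsg.Agent.Lib.FrobeniusFixedLine

/-- The descent argument, when the centre has no fixed points. -/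
theorem core {W : Type*} [CommGroup W] [Finite W] {r : ℕ} (hr : r.Prime) (α : MulAut W) (hα : α ^ r = 1)
    (K : Subgroup (MulAut W)) (hn : ∀ k ∈ K, α * k * α⁻¹ ∈ K)
    (hfpf : ∀ k ∈ K, α * k * α⁻¹ = k → k = 1)
    (hcop : (Nat.card K).Coprime (Nat.card W)) (c : W) (hfix : ∀ w, α w = w → w ∈ zpowers c)
    (hZ : ∀ w : W, (∀ z ∈ K ⊓ centralizer (K : Set (MulAut W)), z w = w) → w = 1) :
    ∀ k₁ ∈ K, ∀ k₂ ∈ K, k₁ * k₂ = k₂ * k₁ := by
  classical
  set Z := K ⊓ centralizer (K : Set (MulAut W)) with hZdef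
  haveI : Fintype Z := Fintype.ofFinite Z
  have hZc : ∀ z ∈ Z, ∀ k ∈ K, k * z = z * k := fun z hz k hk => mem_centralizer_iff.mp hz.2 k hk
  have hnZ : ∀ i : ℕ, ∀ z ∈ Z, α ^ i * z * (α ^ i)⁻¹ ∈ Z := by
    have hαK : α ∈ normalizer (K : Set (MulAut W)) := mem_normalizer_fintype hn
    intro i z hz
    have hi : α ^ i ∈ normalizer (K : Set (MulAut W)) := pow_mem hαK i
    refine ⟨(mem_normalizer_iff.mp hi z).mp hz.1, mem_centralizer_iff.mpr fun k hk => ?_⟩
    have hk' : (α ^ i)⁻¹ * k * α ^ i ∈ K := (mem_normalizer_iff''.mp hi k).mp hk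
    calc k * (α ^ i * z * (α ^ i)⁻¹) = α ^ i * ((α ^ i)⁻¹ * k * α ^ i * z) * (α ^ i)⁻¹ := by group
      _ = α ^ i * (z * ((α ^ i)⁻¹ * k * α ^ i)) * (α ^ i)⁻¹ := by rw [hZc z hz _ hk']
      _ = α ^ i * z * (α ^ i)⁻¹ * k := by group
  have hN : ∀ w : W, ∏ z : Z, (z : MulAut W) w = 1 := by
    intro w
    refine hZ _ fun e he => ?_
    rw [map_prod]
    refine Fintype.prod_equiv (Equiv.mulLeft (⟨e, he⟩ : Z)) _ _ fun z => ?_
    rfl
  -- the fixed line generates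
  have hgen : ∀ w : W, w ^ Nat.card Z ∈ closure {x | ∃ z ∈ Z, x = z c} := by
    intro w
    have h1 : w ^ Nat.card Z =
        ∏ z : Z, ((z : MulAut W))⁻¹ (∏ i ∈ Finset.range r, (α ^ i) ((z : MulAut W) w)) := by
      simp only [map_prod]
      rw [Finset.prod_comm, ← Finset.mul_prod_erase _ _ (Finset.mem_range.mpr hr.pos)]
      rw [Finset.prod_eq_one (s := (Finset.range r).erase 0) ?_, mul_one]
      · simp [Finset.prod_const, Nat.card_eq_fintype_card]
      intro i hi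
      rw [Finset.mem_erase, Finset.mem_range] at hi
      let d : Z → Z := fun z => ⟨(z : MulAut W)⁻¹ * (α ^ i * z * (α ^ i)⁻¹),
        Z.mul_mem (Z.inv_mem z.2) (hnZ i z z.2)⟩
      have hd : Function.Injective d := by
        intro z y hzy
        have h2 : (z : MulAut W)⁻¹ * (α ^ i * z * (α ^ i)⁻¹) = (y : MulAut W)⁻¹ * (α ^ i * y * (α ^ i)⁻¹) :=
          congrArg Subtype.val hzy
        have hcyz : ((z : MulAut W) * (y : MulAut W)⁻¹) = ((y : MulAut W)⁻¹ * z) :=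
          hZc _ (Z.inv_mem y.2) _ z.2.1
        have h3 : α ^ i * ((z : MulAut W) * (y : MulAut W)⁻¹) * (α ^ i)⁻¹ =
            (z : MulAut W) * (y : MulAut W)⁻¹ := by
          calc α ^ i * ((z : MulAut W) * (y : MulAut W)⁻¹) * (α ^ i)⁻¹
              = (z : MulAut W) * ((z : MulAut W)⁻¹ * (α ^ i * z * (α ^ i)⁻¹)) *
                  (α ^ i * y * (α ^ i)⁻¹)⁻¹ := by group
            _ = (z : MulAut W) * (y : MulAut W)⁻¹ := by rw [h2]; group
        exact Subtype.ext (mul_inv_eq_one.mp (hfpf _ (K.mul_mem z.2.1 (K.inv_mem y.2.1))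
          (mul_inv_eq_iff_eq_mul.mpr
            (PrimeGraphFour.commute_of_pow_prime hr hα (Nat.pos_of_ne_zero hi.1) hi.2 h3).eq)))
      refine (Fintype.prod_bijective d (Finite.injective_iff_bijective.mp hd) _
        (fun z => (z : MulAut W) ((α ^ i) w)) fun z => ?_).trans (hN _)
      show _ = ((z : MulAut W)⁻¹ * (α ^ i * z * (α ^ i)⁻¹)) ((α ^ i) w)
      simp [MulAut.mul_apply]
    rw [h1]
    refine prod_mem fun z _ => ?_
    have hfixed : ∀ v : W, α (∏ i ∈ Finset.range r, (α ^ i) v) = ∏ i ∈ Finset.range r, (α ^ i) v := by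
      intro v
      rw [map_prod]
      have h2 := Finset.prod_range_succ (fun i => (α ^ i) v) r
      rw [Finset.prod_range_succ', hα, pow_zero] at h2
      simp only [← MulAut.mul_apply, ← pow_succ']
      exact mul_right_cancel h2
    obtain ⟨j, hj⟩ := mem_zpowers_iff.mp (hfix _ (hfixed ((z : MulAut W) w)))
    rw [← hj, map_zpow]
    exact Subgroup.zpow_mem _ (Subgroup.subset_closure
      (show ((z : MulAut W))⁻¹ c ∈ {x | ∃ z ∈ Z, x = z c} from ⟨_, Z.inv_mem z.2, rfl⟩)) j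
  have hpow : ∀ w : W, ∃ n : ℕ, (w ^ Nat.card Z) ^ n = w := fun w =>
    exists_pow_eq_self_of_coprime ((hcop.coprime_dvd_left (card_dvd_of_le inf_le_left)).coprime_dvd_right
      (orderOf_dvd_natCard w))
  have hall : ∀ w : W, w ∈ closure {x | ∃ z ∈ Z, x = z c} := fun w => by
    obtain ⟨n, hn⟩ := hpow w
    rw [← hn]
    exact Subgroup.pow_mem _ (hgen w) n
  -- every point is the image of `c` under a map in the bicommutant of `Z`
  have hf : ∀ x : W, ∃ f : W →* W, f c = x ∧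
      ∀ g : W →* W, (∀ z ∈ Z, ∀ w, g (z w) = z (g w)) → ∀ w, g (f w) = f (g w) := by
    intro x
    induction hall x using closure_induction with
    | mem x hx =>
      obtain ⟨z, hz, rfl⟩ := hx
      exact ⟨(z : W ≃* W).toMonoidHom, rfl, fun g hg w => hg z hz w⟩
    | one => exact ⟨1, rfl, fun g _ w => by simp⟩
    | mul x y _ _ ihx ihy =>
      obtain ⟨f, hf, hf'⟩ := ihx
      obtain ⟨f₂, hf₂, hf₂'⟩ := ihy
      exact ⟨f * f₂, by simp [hf, hf₂], fun g hg w => by simp [hf' g hg w, hf₂' g hg w]⟩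
    | inv x _ ihx =>
      obtain ⟨f, hf, hf'⟩ := ihx
      exact ⟨f⁻¹, by simp [hf], fun g hg w => by simp [hf' g hg w]⟩
  intro k₁ hk₁ k₂ hk₂
  have hkz : ∀ k ∈ K, ∀ z ∈ Z, ∀ w, k (z w) = z (k w) := fun k hk z hz w => by
    rw [← MulAut.mul_apply, hZc z hz k hk, MulAut.mul_apply]
  obtain ⟨f₁, hf₁, hf₁'⟩ := hf (k₁ c)
  obtain ⟨f₂, hf₂, hf₂'⟩ := hf (k₂ c)
  have hc : k₁ (k₂ c) = k₂ (k₁ c) := by
    have hf₂z : ∀ z ∈ Z, ∀ w, f₂ (z w) = z (f₂ w) := fun z hz w =>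
      (hf₂' (z : W ≃* W).toMonoidHom (fun z' hz' w => hkz z hz.1 z' hz' w) w).symm
    calc k₁ (k₂ c) = k₁ (f₂ c) := by rw [hf₂]
      _ = f₂ (k₁ c) := hf₂' (k₁ : W ≃* W).toMonoidHom (hkz k₁ hk₁) c
      _ = f₂ (f₁ c) := by rw [hf₁]
      _ = f₁ (f₂ c) := hf₁' f₂ hf₂z c
      _ = f₁ (k₂ c) := by rw [hf₂]
      _ = k₂ (f₁ c) := (hf₁' (k₂ : W ≃* W).toMonoidHom (hkz k₂ hk₂) c).symm
      _ = k₂ (k₁ c) := by rw [hf₁]
  refine MulEquiv.ext fun w => ?_
  show k₁ (k₂ w) = k₂ (k₁ w)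
  induction hall w using closure_induction with
  | mem x hx =>
    obtain ⟨z, hz, rfl⟩ := hx
    rw [hkz k₂ hk₂ z hz, hkz k₁ hk₁ z hz, hkz k₁ hk₁ z hz, hkz k₂ hk₂ z hz, hc]
  | one => simp
  | mul x y _ _ ihx ihy => simp [ihx, ihy]
  | inv x _ ihx => simp [ihx]

variable {G : Type u} [Group G] [Finite G]

/-- Commutators of the kernel centralize the module. -/
theorem commutator_centralizes {V K : Subgroup G} {a : G} {r : ℕ} (hr : r.Prime) (ha : orderOf a = r)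
    (hVc : ∀ u ∈ V, ∀ v ∈ V, Commute u v) (haK : a ∈ normalizer (K : Set G))
    (hfpf : ∀ k ∈ K, a * k * a⁻¹ = k → k = 1) [Group.IsNilpotent K]
    (hcop : (Nat.card K).Coprime (Nat.card V)) {c : G}
    (hfix : ∀ v ∈ V, Commute a v → v ∈ zpowers c) :
    ∀ U : Subgroup G, U ≤ V → a ∈ normalizer (U : Set G) → K ≤ normalizer (U : Set G) →
      ∀ k₁ ∈ K, ∀ k₂ ∈ K, ∀ u ∈ U, Commute ⁅k₁, k₂⁆ u := by
  classical
  intro U
  induction U using WellFoundedLT.induction with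
  | ind U IH =>
  intro hUV haU hKU k₁ hk₁ k₂ hk₂
  letI : CommGroup U := { (inferInstance : Group U) with
    mul_comm := fun u v => Subtype.ext (hVc u (hUV u.2) v (hUV v.2)).eq }
  set N := normalizer (U : Set G) with hN
  set ψ := U.normalizerMonoidHom with hψ
  set α := ψ ⟨a, haU⟩ with hα
  set Kb := (K.subgroupOf N).map ψ with hKb
  have hα_r : α ^ r = 1 := by
    rw [hα, ← map_pow, show (⟨a, haU⟩ : N) ^ r = 1 from
      Subtype.ext (by rw [SubmonoidClass.coe_pow, ← ha, pow_orderOf_eq_one]; rfl), map_one]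
  have hmemKb : ∀ k (hk : k ∈ K), ψ ⟨k, hKU hk⟩ ∈ Kb := fun k hk => ⟨_, hk, rfl⟩
  have hn : ∀ k ∈ Kb, α * k * α⁻¹ ∈ Kb := by
    rintro _ ⟨k, hk, rfl⟩
    rw [hα, ← map_mul, ← map_inv, ← map_mul]
    exact ⟨_, (mem_normalizer_iff.mp haK k).mp hk, rfl⟩
  have hfpfb : ∀ k ∈ Kb, α * k * α⁻¹ = k → k = 1 := by
    rintro _ ⟨k, hk, rfl⟩ hfx
    let σ : MulAut K := K.normalizerMonoidHom ⟨a, haK⟩
    let M : Subgroup K := (ψ.comp (Subgroup.inclusion hKU)).ker
    refine Frobenius.fixedPointFree_quotient σ (fun g hg => Subtype.ext (hfpf g g.2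
      (congrArg Subtype.val hg))) M (fun x hx => ?_) (g := ⟨(k : G), hk⟩) ?_
    · show ψ (Subgroup.inclusion hKU (σ x)) = 1
      have e : Subgroup.inclusion hKU (σ x) = ⟨a, haU⟩ * Subgroup.inclusion hKU x * ⟨a, haU⟩⁻¹ :=
        Subtype.ext rfl
      rw [e, map_mul, map_mul, map_inv, show ψ (Subgroup.inclusion hKU x) = 1 from hx, mul_one,
        mul_inv_cancel]
    · show ψ (Subgroup.inclusion hKU ((⟨(k : G), hk⟩ : K)⁻¹ * σ ⟨(k : G), hk⟩)) = 1
      have e : Subgroup.inclusion hKU ((⟨(k : G), hk⟩ : K)⁻¹ * σ ⟨(k : G), hk⟩) =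
          k⁻¹ * (⟨a, haU⟩ * k * ⟨a, haU⟩⁻¹) := Subtype.ext rfl
      rw [e, map_mul, map_mul, map_mul, map_inv, map_inv, ← hα, hfx, inv_mul_cancel]
  have hcopb : (Nat.card Kb).Coprime (Nat.card U) :=
    ((hcop.coprime_dvd_left ((card_map_dvd _ ψ).trans
      (Nat.card_congr (subgroupOfEquivOfLe hKU).toEquiv).dvd))).coprime_dvd_right (card_dvd_of_le hUV)
  have hcomm : ψ ⟨k₁, hKU hk₁⟩ * ψ ⟨k₂, hKU hk₂⟩ = ψ ⟨k₂, hKU hk₂⟩ * ψ ⟨k₁, hKU hk₁⟩ →
      ∀ u ∈ U, Commute ⁅k₁, k₂⁆ u := by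
    intro h u hu
    have h1 : ψ ⁅(⟨k₁, hKU hk₁⟩ : N), ⟨k₂, hKU hk₂⟩⁆ = 1 := by
      rw [map_commutatorElement, commutatorElement_eq_one_iff_mul_comm]
      exact h
    have h2 := congrArg Subtype.val (MulEquiv.congr_fun h1 ⟨u, hu⟩)
    exact mul_inv_eq_iff_eq_mul.mp h2
  set Z := Kb ⊓ centralizer (Kb : Set (MulAut U)) with hZdef
  by_cases hZ : ∀ w : U, (∀ z ∈ Z, z w = w) → w = 1
  · -- no fixed points of the centre: descent
    obtain ⟨c', hc'⟩ : ∃ c' : U, ∀ w : U, α w = w → w ∈ zpowers c' := by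
      let F : Subgroup U :=
        { carrier := {w | α w = w}
          one_mem' := map_one α
          mul_mem' := fun {x y} hx hy => by
            show α (x * y) = x * y
            rw [map_mul, hx, hy]
          inv_mem' := fun {x} hx => by
            show α x⁻¹ = x⁻¹
            rw [map_inv, hx] }
      have hF : F.map U.subtype ≤ zpowers c := by
        rintro _ ⟨w, hw, rfl⟩
        exact hfix w (hUV w.2) (mul_inv_eq_iff_eq_mul.mp (congrArg Subtype.val hw))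
      haveI : IsCyclic (F.map U.subtype) := isCyclic_of_le hF
      haveI : IsCyclic F := (F.equivMapOfInjective _ U.subtype_injective).isCyclic.mpr inferInstance
      obtain ⟨⟨g, hg⟩, hgen⟩ := IsCyclic.exists_generator (α := F)
      refine ⟨g, fun w hw => ?_⟩
      obtain ⟨i, hi⟩ := mem_zpowers_iff.mp (hgen ⟨w, hw⟩)
      exact mem_zpowers_iff.mpr ⟨i, congrArg Subtype.val hi⟩
    exact hcomm (core hr α hα_r Kb hn hfpfb hcopb c' hc' hZ _ (hmemKb k₁ hk₁) _ (hmemKb k₂ hk₂))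
  push Not at hZ
  obtain ⟨w₀, hw₀, hw₀1⟩ := hZ
  by_cases hKb1 : Kb = ⊥
  · refine hcomm ?_
    have e1 : ψ ⟨k₁, hKU hk₁⟩ = 1 := mem_bot.mp (hKb1 ▸ hmemKb k₁ hk₁)
    have e2 : ψ ⟨k₂, hKU hk₂⟩ = 1 := mem_bot.mp (hKb1 ▸ hmemKb k₂ hk₂)
    rw [e1, e2]
  haveI : Fintype Z := Fintype.ofFinite Z
  -- the centre is nontrivial
  obtain ⟨z₀, hz₀, hz₀1⟩ : ∃ z ∈ Z, z ≠ 1 := by
    haveI : Group.IsNilpotent (K.subgroupOf N) :=
      Group.nilpotent_of_mulEquiv (subgroupOfEquivOfLe hKU).symm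
    haveI : Group.IsNilpotent Kb :=
      Group.nilpotent_of_surjective (ψ.subgroupMap (K.subgroupOf N)) (ψ.subgroupMap_surjective _)
    haveI : Nontrivial Kb := (Subgroup.nontrivial_iff_ne_bot _).mpr hKb1
    obtain ⟨⟨z, hz⟩, hzc, hz1⟩ := (Subgroup.bot_or_exists_ne_one (⊤ ⊓ center Kb)).resolve_left
      (Solvable.inf_center_ne_bot (fun h => hKb1 (by
        rw [← Subgroup.card_eq_one, ← Subgroup.card_top (G := Kb), h, Subgroup.card_bot])))
    exact ⟨z, ⟨hz, mem_centralizer_iff.mpr fun k hk =>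
      congrArg Subtype.val (mem_center_iff.mp hzc.2 ⟨k, hk⟩)⟩, fun h => hz1 (Subtype.ext h)⟩
  let C : Subgroup U :=
    { carrier := {w | ∀ z ∈ Z, z w = w}
      one_mem' := fun z _ => map_one z
      mul_mem' := fun {x y} hx hy z hz => by rw [map_mul, hx z hz, hy z hz]
      inv_mem' := fun {x} hx z hz => by rw [map_inv, hx z hz] }
  let D : Subgroup U :=
    { carrier := {w | ∏ z : Z, (z : MulAut U) w = 1}
      one_mem' := by simp
      mul_mem' := fun {x y} hx hy => by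
        simp only [Set.mem_setOf_eq] at hx hy ⊢
        simp [Finset.prod_mul_distrib, hx, hy]
      inv_mem' := fun {x} hx => by
        simp only [Set.mem_setOf_eq] at hx ⊢
        simp [Finset.prod_inv_distrib, hx] }
  -- both parts are invariant
  have hinv : ∀ g : MulAut U, (∀ z ∈ Kb, g * z * g⁻¹ ∈ Kb) →
      (∀ w ∈ C, g w ∈ C) ∧ (∀ w ∈ D, g w ∈ D) := by
    intro g hg
    have hgN : g ∈ normalizer (Kb : Set (MulAut U)) := mem_normalizer_fintype hg
    have hgZ : ∀ z ∈ Z, g⁻¹ * z * g ∈ Z := fun z hz => by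
      refine ⟨(mem_normalizer_iff''.mp hgN z).mp hz.1, mem_centralizer_iff.mpr fun k hk => ?_⟩
      calc k * (g⁻¹ * z * g) = g⁻¹ * (g * k * g⁻¹ * z) * g := by group
        _ = g⁻¹ * (z * (g * k * g⁻¹)) * g := by rw [mem_centralizer_iff.mp hz.2 _ (hg k hk)]
        _ = g⁻¹ * z * g * k := by group
    refine ⟨fun w hw z hz => ?_, fun w hw => ?_⟩
    · calc z (g w) = g ((g⁻¹ * z * g) w) := by simp [MulAut.mul_apply]
        _ = g w := by rw [hw _ (hgZ z hz)]
    · let d : Z → Z := fun z => ⟨g⁻¹ * (z : MulAut U) * g, hgZ z z.2⟩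
      have hd : Function.Injective d := fun x y hxy => Subtype.ext
        (mul_left_cancel (mul_right_cancel (congrArg Subtype.val hxy :)))
      show ∏ z : Z, (z : MulAut U) (g w) = 1
      rw [Fintype.prod_bijective d (Finite.injective_iff_bijective.mp hd) _
        (fun z : Z => g ((z : MulAut U) w)) fun z => by simp [d, MulAut.mul_apply], ← map_prod,
        show ∏ z : Z, (z : MulAut U) w = 1 from hw, map_one]
  have hdown : ∀ Y : Subgroup U, Y ≠ ⊤ →
      (∀ g : MulAut U, (∀ z ∈ Kb, g * z * g⁻¹ ∈ Kb) → ∀ w ∈ Y, g w ∈ Y) →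
      ∀ w ∈ Y, Commute ⁅k₁, k₂⁆ (w : G) := by
    intro Y hY hYinv w hw
    have hlt : Y.map U.subtype < U := lt_of_le_of_ne (map_subtype_le _) fun h => hY (by
      rw [eq_top_iff]
      intro x _
      have hx : (x : G) ∈ Y.map U.subtype := h.symm ▸ x.2
      obtain ⟨y, hy, hyx⟩ := hx
      exact Subtype.ext hyx ▸ hy)
    refine IH _ hlt (hlt.le.trans hUV) ?_ ?_ k₁ hk₁ k₂ hk₂ _ ⟨w, hw, rfl⟩
    · refine mem_normalizer_fintype ?_
      rintro _ ⟨y, hy, rfl⟩
      exact ⟨α y, hYinv α hn y hy, rfl⟩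
    · refine fun k hk => mem_normalizer_fintype ?_
      rintro _ ⟨y, hy, rfl⟩
      exact ⟨ψ ⟨k, hKU hk⟩ y, hYinv _ (fun z hz => Kb.mul_mem (Kb.mul_mem (hmemKb k hk) hz)
        (Kb.inv_mem (hmemKb k hk))) y hy, rfl⟩
  have hC : C ≠ ⊤ := fun h => hz₀1 (MulEquiv.ext fun w => (h.ge (mem_top w)) z₀ hz₀)
  have hcopZ : ∀ w : U, (Nat.card Z).Coprime (orderOf w) := fun w =>
    (hcopb.coprime_dvd_left (card_dvd_of_le inf_le_left)).coprime_dvd_right (orderOf_dvd_natCard w)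
  have hD : D ≠ ⊤ := fun h => hw₀1 (by
    have h1 : ∏ z : Z, (z : MulAut U) w₀ = 1 := h.ge (mem_top w₀)
    rw [Finset.prod_congr rfl fun z _ => hw₀ _ (SetLike.coe_mem z), Finset.prod_const, Finset.card_univ,
      ← Nat.card_eq_fintype_card] at h1
    obtain ⟨n, hn⟩ := exists_pow_eq_self_of_coprime (hcopZ w₀)
    rw [← hn, h1, one_pow])
  intro u hu
  set w : U := ⟨u, hu⟩ with hw
  have hP : (∏ z : Z, (z : MulAut U) w) ∈ C := fun e he => by
    rw [map_prod]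
    exact Fintype.prod_equiv (Equiv.mulLeft (⟨e, he⟩ : Z)) _ _ fun z => rfl
  have hQ : w ^ Nat.card Z * (∏ z : Z, (z : MulAut U) w)⁻¹ ∈ D := by
    show ∏ z : Z, (z : MulAut U) _ = 1
    simp only [map_mul, map_inv, map_pow]
    rw [Finset.prod_mul_distrib, Finset.prod_inv_distrib, Finset.prod_pow,
      Finset.prod_congr rfl fun z _ => hP _ (SetLike.coe_mem z), Finset.prod_const, Finset.card_univ,
      ← Nat.card_eq_fintype_card, mul_inv_cancel]
  have h1 := (hdown D hD (fun g hg => (hinv g hg).2) _ hQ).mul_right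
    (hdown C hC (fun g hg => (hinv g hg).1) _ hP)
  rw [← Subgroup.coe_mul, inv_mul_cancel_right] at h1
  obtain ⟨n, hn⟩ := exists_pow_eq_self_of_coprime (hcopZ w)
  have h2 := h1.pow_right n
  rw [← SubmonoidClass.coe_pow, hn] at h2
  exact h2

end Cfsg.Agent.Lib.FrobeniusFixedLine
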